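import Cfsg.Agent.FT.Q9a
import Cfsg.Agent.FT.PF1c

/-! Toolbox for Peterfalvi sections 9-14: orthonormal families, the characters `η_ij`, `μ_ij`. -/

set_option autoImplicit false
set_option linter.unusedSectionVars false
set_option linter.unusedVariables false

namespace Cfsg.FT.Q

open Subgroup Cfsg.L0 Cfsg.H8
open scoped commutatorElement ComplexConjugate

variable {G : Type} [Group G] [Finite G] {L K H A M N W W₁ W₂ : Subgroup G}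
  {φ ψ χ θ ω ω' i j i' j' k : G → ℂ} {x y g : G}

/-- orthonormal family -/
structure ONf {ι : Type*} (L : Subgroup G) (s : Finset ι) (f : ι → G → ℂ) : Prop where
  one : ∀ i ∈ s, dot L (f i) (f i) = 1
  orth : ∀ i ∈ s, ∀ j ∈ s, i ≠ j → dot L (f i) (f j) = 0

namespace ONf
variable {ι : Type*} {s t : Finset ι} {f : ι → G → ℂ} {a : ι}

theorem mono (h : ONf L s f) (ht : t ⊆ s) : ONf L t f :=
  ⟨fun i hi => h.one i (ht hi), fun i hi j hj => h.orth i (ht hi) j (ht hj)⟩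

theorem dot_sum_smul (h : ONf L s f) (c : ι → ℂ) (ha : a ∈ s) :
    dot L (∑ i ∈ s, c i • f i) (f a) = c a := by
  rw [dot_sum_of_orth (f := fun i => c i • f i) ha fun j hj hne => by
    rw [dot_smul_left, h.orth j hj a ha hne, mul_zero], dot_smul_left, h.one a ha, mul_one]

theorem dot_sum (h : ONf L s f) (ha : a ∈ s) : dot L (∑ i ∈ s, f i) (f a) = 1 := by
  simpa using h.dot_sum_smul 1 ha

theorem nrm_sum_smul (h : ONf L s f) (c : ι → ℂ) :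
    nrm L (∑ i ∈ s, c i • f i) = ∑ i ∈ s, ‖c i‖ ^ 2 := by
  rw [nrm_sum_of_orth fun i hi j hj hne => by
    rw [dot_smul_left, dot_smul_right, h.orth i hi j hj hne, mul_zero, mul_zero]]
  exact Finset.sum_congr rfl fun i hi => by rw [nrm_smul, nrm_eq_one_iff.2 (h.one i hi), mul_one]

theorem nrm_sum (h : ONf L s f) : nrm L (∑ i ∈ s, f i) = s.card := by
  simpa using h.nrm_sum_smul 1

theorem dot_sub_proj (h : ONf L s f) (φ : G → ℂ) (ha : a ∈ s) :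
    dot L (φ - ∑ i ∈ s, dot L φ (f i) • f i) (f a) = 0 := by
  rw [dot_sub_left, h.dot_sum_smul _ ha, sub_self]

theorem nrm_eq (h : ONf L s f) (φ : G → ℂ) :
    nrm L φ = ∑ i ∈ s, ‖dot L φ (f i)‖ ^ 2 + nrm L (φ - ∑ i ∈ s, dot L φ (f i) • f i) := by
  rw [← h.nrm_sum_smul, ← nrm_add_of_orth, add_sub_cancel]
  rw [dot_eq_zero_comm, dot_sum_right]
  exact Finset.sum_eq_zero fun i hi => by rw [dot_smul_right, h.dot_sub_proj φ hi, mul_zero]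

theorem bessel (h : ONf L s f) (φ : G → ℂ) : ∑ i ∈ s, ‖dot L φ (f i)‖ ^ 2 ≤ nrm L φ := by
  rw [h.nrm_eq φ]; exact le_add_of_nonneg_right (nrm_nonneg _ _)

theorem nrm_eq_int (h : ONf L s f) {c : ι → ℤ} (hc : ∀ i ∈ s, dot L φ (f i) = c i) :
    nrm L φ = ∑ i ∈ s, (c i : ℝ) ^ 2 + nrm L (φ - ∑ i ∈ s, c i • f i) := by
  rw [h.nrm_eq φ]
  congr 1
  · exact Finset.sum_congr rfl fun i hi => by rw [hc i hi, Complex.norm_intCast, sq_abs]
  · rw [Finset.sum_congr rfl fun i hi => by rw [hc i hi, Int.cast_smul_eq_zsmul]]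

theorem bessel_int (h : ONf L s f) {c : ι → ℤ} (hc : ∀ i ∈ s, dot L φ (f i) = c i) :
    ∑ i ∈ s, (c i : ℝ) ^ 2 ≤ nrm L φ := by
  rw [h.nrm_eq_int hc]; exact le_add_of_nonneg_right (nrm_nonneg _ _)

theorem eq_sum (h : ONf L s f) (hφ : Sp L φ) (hf : ∀ i ∈ s, Sp L (f i)) {c : ι → ℤ}
    (hc : ∀ i ∈ s, dot L φ (f i) = c i) (e : nrm L φ ≤ ∑ i ∈ s, (c i : ℝ) ^ 2) :
    φ = ∑ i ∈ s, c i • f i := by
  have := h.nrm_eq_int hc
  exact sub_eq_zero.1 ((hφ.sub (Sp.sum fun i hi => (hf i hi).zsmul _)).eq_zero_of_nrm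
    (le_antisymm (by linarith) (nrm_nonneg _ _)))

end ONf

theorem onf_coh {S T : Finset (G → ℂ)} {τ ν : LM G} (h : CohWith L S τ ν) (hT : T ⊆ S)
    (hi : ∀ χ ∈ T, Irr L χ) : ONf ⊤ T ν :=
  ⟨fun a ha => by rw [h.dot (hT ha) (hT ha), (hi a ha).dot_self],
    fun a ha b hb hne => by rw [h.dot (hT ha) (hT hb), (hi a ha).dot_ne (hi b hb) hne]⟩

theorem cauchy (L : Subgroup G) (φ ψ : G → ℂ) : ‖dot L φ ψ‖ ^ 2 ≤ nrm L φ * nrm L ψ := by
  rcases (nrm_nonneg L ψ).eq_or_lt with h | h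
  · rw [dot_congr (fun _ _ => rfl) (ψ' := 0) (eq_zero_on_of_nrm h.symm), ← h]; simp
  have h1 : (√(nrm L ψ) : ℂ) ≠ 0 := Complex.ofReal_ne_zero.2 (Real.sqrt_pos.2 h).ne'
  have := norm_dot_sq_le (L := L) (ψ := (√(nrm L ψ) : ℂ)⁻¹ • ψ) (nrm_eq_one_iff.1 (by
    rw [nrm_smul, norm_inv, Complex.norm_real, Real.norm_of_nonneg (Real.sqrt_nonneg _), inv_pow,
      Real.sq_sqrt h.le, inv_mul_cancel₀ h.ne'])) φ
  rw [dot_smul_right, norm_mul, mul_pow, Complex.norm_conj, norm_inv, Complex.norm_real,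
    Real.norm_of_nonneg (Real.sqrt_nonneg _), inv_pow, Real.sq_sqrt h.le, inv_mul_le_iff₀ h] at this
  linarith

theorem irrK_irr (h : χ ∈ irrK K N) : Irr K χ := (mem_irrK.1 h).1
theorem irrK_ker (h : χ ∈ irrK K N) : N ≤ cker χ := (mem_irrK.1 h).2

theorem le_inert_iff (hθ : Lin H θ) (hA : A ≤ 𝒩 H) : A ≤ inert θ ↔ ⁅H, A⁆ ≤ cker θ := by
  refine ⟨fun h => commutator_le.2 fun x hx g hg => hθ.mem_cker.2 ?_,
    fun h g hg => le_inert_of_cker hθ.cf (fun x hx => ?_) (hA hg)⟩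
  · rw [commutatorElement_def, mul_assoc, mul_assoc, ← mul_assoc g, hθ.map_mul hx
      (conj_mem_of_norm (hA hg) (H.inv_mem hx)), mem_inert'.1 (h hg), hθ.mul_inv hx]
  · rw [← commutatorElement_def, ← commutatorElement_inv]
    exact inv_mem (h (commutator_mem_commutator hx hg))

/-- induction from an intermediate normal subgroup containing the inertia group -/
theorem irr_ind_of_under (hH : H ⊴ L) (hK : K ⊴ L) (hHK : H ≤ K) (hχ : Irr K χ) (hθ : Irr H θ)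
    (h1 : dot H χ θ ≠ 0) (h2 : L ⊓ inert θ ≤ K) : Irr L (ind K L χ) := by
  refine hχ.irr_ind hK fun x hx => ?_
  have h3 : dot H χ (cjf x θ) ≠ 0 := by
    rw [← mem_inert.1 hx.2, dot_cjf_of_norm (hH.norm hx.1)]; exact h1
  obtain ⟨y, hy, e⟩ := mem_cls.1 (mem_cls_of_constt (hH.mono hHK hK.le) hχ hθ
    (hθ.cjf_of_norm (hH.norm hx.1)) h1 h3)
  have := h2 ⟨L.mul_mem (L.inv_mem hx.1) (hK.le hy), cjf_eq_cjf_iff.1 e⟩
  simpa using K.mul_mem hy (K.inv_mem this)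

variable [PF]

section cyc
variable (h : CycTI L W W₁ W₂)
include h

theorem abelW : Abel W := h.cyc.abel
theorem lin_W (hω : Irr W ω) : Lin W ω := hω.lin_of_abel (abelW h)
theorem one_mem1 : cf1 W ∈ irrK W W₁ := cf1_mem_irrK h.dp.le_left
theorem one_mem2 : cf1 W ∈ irrK W W₂ := cf1_mem_irrK h.dp.le_right
omit h in
theorem one_mul' (hj : j ∈ irrK W N) : cf1 W * j = j := (irrK_irr hj).sp.cf1_mul
omit h in
theorem mul_one' (hj : j ∈ irrK W N) : j * cf1 W = j := (irrK_irr hj).sp.mul_cf1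
omit h in
theorem cc_mem (hj : j ∈ irrK W N) : cc j ∈ irrK W N := aut_mem_irrK hj _
theorem cc_ne (hj : j ∈ irrK W N) (h1 : j ≠ cf1 W) : cc j ≠ j := fun e =>
  h1 ((irrK_irr hj).eq_cf1_of_cc h.odd e)
omit h in
theorem aut_ne_one (u : ℂ →+* ℂ) (h1 : j ≠ cf1 W) : aut u j ≠ cf1 W := fun e =>
  h1 (aut_inj u (e.trans (aut_cf1 u W).symm))
theorem card1 : (irrK W W₂).card = ♯W₁ := (PF3.card_irr1 h).1
theorem card2 : (irrK W W₁).card = ♯W₂ := (PF3.card_irr1 h).2.1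
theorem three_le1 : 3 ≤ ♯W₁ := (PF3.card_irr1 h).2.2.1
theorem three_le2 : 3 ≤ ♯W₂ := (PF3.card_irr1 h).2.2.2.1
theorem cop12 : (♯W₁).Coprime ♯W₂ := (PF3.card_irr1 h).2.2.2.2
theorem symm : CycTI L W W₂ W₁ := ⟨h.dp.symm, h.cyc, h.odd, cycV_comm W₁ W₂ ▸ h.nti⟩
omit h in
theorem sg_comm (L W W₁ W₂ : Subgroup G) : sg L W W₁ W₂ = sg L W W₂ W₁ := by
  unfold sg; simp only [cycV_comm W₁ W₂]
theorem exists_ne_one2 : ∃ j ∈ irrK W W₁, j ≠ cf1 W :=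
  Finset.exists_mem_ne (by rw [card2 h]; have := three_le2 h; omega) _
theorem exists_ne_one1 : ∃ i ∈ irrK W W₂, i ≠ cf1 W := exists_ne_one2 (symm h)
theorem card_erase2 : ((irrK W W₁).erase (cf1 W)).card = ♯W₂ - 1 := by
  rw [Finset.card_erase_of_mem (one_mem1 h), card2 h]
theorem card_erase1 : ((irrK W W₂).erase (cf1 W)).card = ♯W₁ - 1 := card_erase2 (symm h)

theorem sum_irrW {R : Type*} [AddCommMonoid R] (F : (G → ℂ) → R) :
    ∑ ω ∈ irr W, F ω = ∑ i ∈ irrK W W₂, ∑ j ∈ irrK W W₁, F (i * j) := by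
  rw [← Finset.sum_product']
  refine (Finset.sum_bij (fun a _ => a.1 * a.2) (fun a ha => ?_) (fun a ha b hb e => ?_)
    (fun ω hω => ?_) fun _ _ => rfl).symm
  · exact mem_irr.2 (PF3.irr_mul h (Finset.mem_product.1 ha).1 (Finset.mem_product.1 ha).2)
  · exact Prod.ext_iff.2 (PF3.mul_inj h (Finset.mem_product.1 ha).1 (Finset.mem_product.1 ha).2
      (Finset.mem_product.1 hb).1 (Finset.mem_product.1 hb).2 e)
  · obtain ⟨i, hi, j, hj, e⟩ := PF3.irr_split h (mem_irr.1 hω)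
    exact ⟨(i, j), Finset.mem_product.2 ⟨hi, hj⟩, e.symm⟩

theorem eta_self (hω : Irr W ω) : dot L (sg L W W₁ W₂ ω) (sg L W W₁ W₂ ω) = 1 :=
  (PF3.sg_dirr h hω).dot_self
theorem eta_ne (hω : Irr W ω) (hω' : Irr W ω') (hne : ω ≠ ω') :
    dot L (sg L W W₁ W₂ ω) (sg L W W₁ W₂ ω') = 0 := by
  rw [PF3.sg_iso h hω.cf hω'.cf, hω.dot_ne hω' hne]
theorem eta_onf : ONf L (irr W) (sg L W W₁ W₂) :=
  ⟨fun _ ha => eta_self h (mem_irr.1 ha), fun _ ha _ hb => eta_ne h (mem_irr.1 ha) (mem_irr.1 hb)⟩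
theorem eta_dot (hi : i ∈ irrK W W₂) (hj : j ∈ irrK W W₁) (hi' : i' ∈ irrK W W₂)
    (hj' : j' ∈ irrK W W₁) : dot L (sg L W W₁ W₂ (i * j)) (sg L W W₁ W₂ (i' * j')) =
      if i = i' ∧ j = j' then 1 else 0 := by
  split_ifs with e
  · rw [e.1, e.2, eta_self h (PF3.irr_mul h hi' hj')]
  · exact eta_ne h (PF3.irr_mul h hi hj) (PF3.irr_mul h hi' hj') fun e' =>
      e (PF3.mul_inj h hi hj hi' hj' e')
theorem eta_col (hj : j ∈ irrK W W₁) : ONf L (irrK W W₂) fun i => sg L W W₁ W₂ (i * j) :=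
  ⟨fun _ ha => eta_self h (PF3.irr_mul h ha hj), fun _ ha _ hb hne => by
    rw [eta_dot h ha hj hb hj, if_neg fun e => hne e.1]⟩
theorem eta_row (hi : i ∈ irrK W W₂) : ONf L (irrK W W₁) fun j => sg L W W₁ W₂ (i * j) :=
  ⟨fun _ ha => eta_self h (PF3.irr_mul h hi ha), fun _ ha _ hb hne => by
    rw [eta_dot h hi ha hi hb, if_neg fun e => hne e.2]⟩
theorem eta_prod : ONf L (irrK W W₂ ×ˢ irrK W W₁) fun a => sg L W W₁ W₂ (a.1 * a.2) :=
  ⟨fun _ ha => eta_self h (PF3.irr_mul h (Finset.mem_product.1 ha).1 (Finset.mem_product.1 ha).2),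
    fun _ ha _ hb hne => by
    rw [eta_dot h (Finset.mem_product.1 ha).1 (Finset.mem_product.1 ha).2
      (Finset.mem_product.1 hb).1 (Finset.mem_product.1 hb).2, if_neg fun e => hne (Prod.ext e.1 e.2)]⟩
theorem eta_vch (hω : Irr W ω) : VCh L (sg L W W₁ W₂ ω) := (PF3.sg_dirr h hω).vch
/-- the sum of a column -/
theorem dot_col (hj : j ∈ irrK W W₁) (hi' : i' ∈ irrK W W₂) (hj' : j' ∈ irrK W W₁) :
    dot L (∑ i ∈ irrK W W₂, sg L W W₁ W₂ (i * j)) (sg L W W₁ W₂ (i' * j')) =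
      if j = j' then 1 else 0 := by
  split_ifs with e
  · subst e; exact (eta_col h hj).dot_sum hi'
  · rw [dot_sum_left]
    exact Finset.sum_eq_zero fun i hi => by rw [eta_dot h hi hj hi' hj', if_neg fun e' => e e'.2]
theorem nrm_col (hj : j ∈ irrK W W₁) : nrm L (∑ i ∈ irrK W W₂, sg L W W₁ W₂ (i * j)) = ♯W₁ := by
  rw [(eta_col h hj).nrm_sum, card1 h]
theorem eta_of_NC (h0 : NC L W W₁ W₂ φ = 0) (hω : Irr W ω) : dot L φ (sg L W W₁ W₂ ω) = 0 := by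
  by_contra e
  exact Finset.notMem_empty ω (Finset.card_eq_zero.1 h0 ▸ Finset.mem_filter.2 ⟨mem_irr.2 hω, e⟩)
/-- a virtual character of small norm vanishing on `V` is orthogonal to the `η` -/
theorem eta_of_small (hφ : VCh L φ) (hv : ∀ x ∈ cycV W₁ W₂, φ x = 0)
    (h1 : nrm L φ < ♯W₁) (h2 : nrm L φ < ♯W₂) (hω : Irr W ω) : dot L φ (sg L W W₁ W₂ ω) = 0 := by
  have := PF3.NC_le_nrm h hφ
  exact eta_of_NC h (PF3.NC_min h hφ.cf hv (lt_min (by exact_mod_cast this.trans_lt h1)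
    (by exact_mod_cast this.trans_lt h2))) hω

theorem mu_irr (hω : Irr W ω) : Irr L (mu L W W₁ W₂ ω) := (PF3.sg_dirr h hω).irr_dchi
omit h in
theorem del_cases (j : G → ℂ) : del L W W₁ W₂ j = 1 ∨ del L W W₁ W₂ j = -1 := dsg_cases _
theorem mu_ne (hω : Irr W ω) (hω' : Irr W ω') (hne : ω ≠ ω') :
    dot L (mu L W W₁ W₂ ω) (mu L W W₁ W₂ ω') = 0 := by
  rw [mu, mu, dchi, dchi, dot_zsmul_left, dot_zsmul_right, eta_ne h hω hω' hne, mul_zero, mul_zero]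
theorem mu_dot (hi : i ∈ irrK W W₂) (hj : j ∈ irrK W W₁) (hi' : i' ∈ irrK W W₂)
    (hj' : j' ∈ irrK W W₁) : dot L (mu L W W₁ W₂ (i * j)) (mu L W W₁ W₂ (i' * j')) =
      if i = i' ∧ j = j' then 1 else 0 := by
  split_ifs with e
  · rw [e.1, e.2, (mu_irr h (PF3.irr_mul h hi' hj')).dot_self]
  · exact mu_ne h (PF3.irr_mul h hi hj) (PF3.irr_mul h hi' hj') fun e' =>
      e (PF3.mul_inj h hi hj hi' hj' e')
theorem mu_col (hj : j ∈ irrK W W₁) : ONf L (irrK W W₂) fun i => mu L W W₁ W₂ (i * j) :=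
  ⟨fun _ ha => (mu_irr h (PF3.irr_mul h ha hj)).dot_self, fun _ ha _ hb hne => by
    rw [mu_dot h ha hj hb hj, if_neg fun e => hne e.1]⟩
theorem dot_muR (hj : j ∈ irrK W W₁) (hi' : i' ∈ irrK W W₂) (hj' : j' ∈ irrK W W₁) :
    dot L (muR L W W₁ W₂ j) (mu L W W₁ W₂ (i' * j')) = if j = j' then 1 else 0 := by
  split_ifs with e
  · subst e; exact (mu_col h hj).dot_sum hi'
  · rw [muR, dot_sum_left]
    exact Finset.sum_eq_zero fun i hi => by rw [mu_dot h hi hj hi' hj', if_neg fun e' => e e'.2]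
theorem nrm_muR (hj : j ∈ irrK W W₁) : nrm L (muR L W W₁ W₂ j) = ♯W₁ := by
  rw [muR, (mu_col h hj).nrm_sum, card1 h]
theorem muR_not_irr (hj : j ∈ irrK W W₁) : ¬ Irr L (muR L W W₁ W₂ j) := fun e => by
  have h1 := nrm_muR h hj
  rw [e.nrm_eq] at h1
  have := three_le1 h
  have : ♯W₁ = 1 := by exact_mod_cast h1.symm
  omega
theorem muR_inj (hj : j ∈ irrK W W₁) (hj' : j' ∈ irrK W W₁)
    (e : muR L W W₁ W₂ j = muR L W W₁ W₂ j') : j = j' := by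
  have h1 := dot_muR h hj (one_mem2 h) hj'
  rw [e, dot_muR h hj' (one_mem2 h) hj', if_pos rfl] at h1
  by_contra e'; simp [e'] at h1
theorem aut_mu (u : ℂ →+* ℂ) (hω : Irr W ω) :
    aut u (mu L W W₁ W₂ ω) = mu L W W₁ W₂ (aut u ω) := by
  rw [mu, mu, ← PF3.sg_aut h u hω.cf, dchi_aut (PF3.sg_dirr h hω)]
theorem del_aut (u : ℂ →+* ℂ) (hω : Irr W ω) : del L W W₁ W₂ (aut u ω) = del L W W₁ W₂ ω := by
  rw [del, del, ← PF3.sg_aut h u hω.cf, dsg_aut (PF3.sg_dirr h hω)]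
omit h in
theorem sum_aut {R : Type*} [AddCommMonoid R] (u : ℂ →+* ℂ) (F : (G → ℂ) → R) :
    ∑ i ∈ irrK W N, F (aut u i) = ∑ i ∈ irrK W N, F i := by
  have hi : Set.InjOn (aut u) (irrK W N : Set (G → ℂ)) := (aut_inj u).injOn
  rw [← Finset.sum_image hi, Finset.eq_of_subset_of_card_le (Finset.image_subset_iff.2
    fun i hi => aut_mem_irrK hi u) (Finset.card_image_of_injOn hi).ge]
theorem aut_muR (u : ℂ →+* ℂ) (hj : j ∈ irrK W W₁) :
    aut u (muR L W W₁ W₂ j) = muR L W W₁ W₂ (aut u j) := by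
  rw [muR, muR, aut_sum, ← sum_aut u fun i => mu L W W₁ W₂ (i * aut u j)]
  exact Finset.sum_congr rfl fun i hi => by rw [aut_mu h u (PF3.irr_mul h hi hj), aut_mul]
theorem aut_col (u : ℂ →+* ℂ) (hj : j ∈ irrK W W₁) :
    aut u (∑ i ∈ irrK W W₂, sg L W W₁ W₂ (i * j)) = ∑ i ∈ irrK W W₂, sg L W W₁ W₂ (i * aut u j) := by
  rw [aut_sum, ← sum_aut u fun i => sg L W W₁ W₂ (i * aut u j)]
  exact Finset.sum_congr rfl fun i hi => by rw [PF3.sg_aut h u (PF3.irr_mul h hi hj).cf, aut_mul]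
theorem mu_one_eq : mu L W W₁ W₂ (cf1 W) = cf1 L := by rw [mu, PF3.sg_one h, (irr_cf1 L).dchi_eq]
theorem del_one : del L W W₁ W₂ (cf1 W) = 1 := by rw [del, PF3.sg_one h, (irr_cf1 L).dsg_eq]

end cyc

section pti
variable (h : PrTI L K W W₁ W₂)
include h

theorem cti : CycTI L W W₁ W₂ := PF4.pti_cti h
theorem chiR_irr (hj : j ∈ irrK W W₁) : Irr K (chiR K L W W₁ W₂ j) := (PF4.chiR_irr h hj).1
theorem ind_chiR (hj : j ∈ irrK W W₁) : ind K L (chiR K L W W₁ W₂ j) = muR L W W₁ W₂ j :=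
  (PF4.chiR_irr h hj).2
theorem muR_ii (hj : j ∈ irrK W W₁) : II K L (muR L W W₁ W₂ j) := ⟨_, chiR_irr h hj, ind_chiR h hj⟩
theorem mu_one (hi : i ∈ irrK W W₂) (hj : j ∈ irrK W W₁) :
    mu L W W₁ W₂ (i * j) 1 = mu L W W₁ W₂ j 1 := by
  rw [← res_one K (mu L W W₁ W₂ (i * j)), PF4.res_mu h hi hj, chiR, res_one]
theorem muR_one (hj : j ∈ irrK W W₁) : muR L W W₁ W₂ j 1 = ♯W₁ * mu L W W₁ W₂ j 1 := by
  rw [← ind_chiR h hj, ind_one h.sd.le_left, h.sd.ri, chiR, res_one]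
theorem chiR_one : chiR K L W W₁ W₂ (cf1 W) = cf1 K := by
  rw [chiR, mu_one_eq (cti h), res_cf1 h.sd.le_left]
theorem muR_zero : muR L W W₁ W₂ (cf1 W) = ind K L (cf1 K) := by
  rw [← ind_chiR h (one_mem1 (cti h)), chiR_one h]
theorem chiR_inert (j : G → ℂ) (hj : j ∈ irrK W W₁) : L ≤ inert (chiR K L W W₁ W₂ j) :=
  (mu_irr (cti h) (irrK_irr hj)).cf.le_inert_res le_rfl h.sd.nrm.norm
theorem chiR_inj (hj : j ∈ irrK W W₁) (hj' : j' ∈ irrK W W₁)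
    (e : chiR K L W W₁ W₂ j = chiR K L W W₁ W₂ j') : j = j' :=
  muR_inj (cti h) hj hj' (by rw [← ind_chiR h hj, e, ind_chiR h hj'])
theorem not_le_chiR (hj : j ∈ irrK W W₁) (h1 : j ≠ cf1 W) (hH : W₂ ≤ H) :
    ¬ H ≤ cker (chiR K L W W₁ W₂ j) := fun e => PF4.cker_chiR h hj h1 (hH.trans e)
theorem muR_mem (hj : j ∈ irrK W W₁) (h1 : j ≠ cf1 W) (hH : W₂ ≤ H) :
    muR L W W₁ W₂ j ∈ sIndD K L H ⊥ :=
  mem_sIndD.2 ⟨_, chiR_irr h hj, bot_le, not_le_chiR h hj h1 hH, ind_chiR h hj⟩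
/-- members of `seqInd` are irreducible or some `μ_j` -/
theorem ii_cases (hχ : II K L χ) : (∃ j ∈ irrK W W₁, χ = muR L W W₁ W₂ j) ∨
    (Irr L χ ∧ ∀ ω, Irr W ω → dot L χ (mu L W W₁ W₂ ω) = 0) := by
  obtain ⟨θ, hθ, rfl⟩ := hχ
  rcases PF4.chiR_cases h hθ with ⟨j, hj, rfl⟩ | ⟨h1, -, h2⟩
  · exact Or.inl ⟨j, hj, ind_chiR h hj⟩
  · exact Or.inr ⟨h1, fun ω hω => h1.dot_ne (mu_irr (cti h) hω) (h2 ω hω)⟩
theorem dot_mu_of_irr (hχ : II K L χ) (hi : Irr L χ) (hω : Irr W ω) :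
    dot L χ (mu L W W₁ W₂ ω) = 0 := by
  rcases ii_cases h hχ with ⟨j, hj, rfl⟩ | h1
  · exact absurd hi (muR_not_irr (cti h) hj)
  · exact h1.2 ω hω
theorem sIndD_cases (hχ : χ ∈ sIndD K L H N) (hH : H ≤ K) :
    Irr L χ ∨ ∃ j ∈ irrK W W₁, j ≠ cf1 W ∧ χ = muR L W W₁ W₂ j := by
  rcases ii_cases h (ii_of_sIndD hχ) with ⟨j, hj, rfl⟩ | h1
  · exact Or.inr ⟨j, hj, fun e => sIndD_ne_ind1 hχ h.sd.nrm hH (by rw [e, muR_zero h]), rfl⟩
  · exact Or.inl h1.1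
theorem muR_mem_iff (hj : j ∈ irrK W W₁) (hH : L ≤ 𝒩 H) (hN : L ≤ 𝒩 N) :
    muR L W W₁ W₂ j ∈ sIndD K L H N ↔ chiR K L W W₁ W₂ j ∈ irrKD K H N := by
  rw [← ind_chiR h hj, ind_mem_sIndD_iff h.sd.nrm hH hN (chiR_irr h hj)]

end pti

end Cfsg.FT.Q
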